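import Groth.Agent.EGA73.Invertible
import Groth.Agent.QC70.FiniteType
import Groth.Prelude.Def_FlatMod2
import Mathlib.CategoryTheory.Limits.Preserves.Shapes.Products

/-! Restriction of free modules along open immersions. -/

universe u

open CategoryTheory Limits AlgebraicGeometry Opposite TopologicalSpace

noncomputable section

namespace Groth.Agent.LF71

variable {X Y : Scheme.{u}}

/-- Morphisms out of the structure module are determined by their value at `1`. -/
lemma unit_hom_ext {M : X.Modules} (a b : Coh.structureModule X ⟶ M)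
    (h : a.app ⊤ (QC70.toUnit 1) = b.app ⊤ (QC70.toUnit 1)) : a = b := by
  ext U : 1
  refine AddCommGrpCat.ext fun (c : Γ(X, U)) => ?_
  exact (QC70.app_toUnit a c).trans ((congrArg (fun z => c • QC70.res M le_top z) h).trans
    (QC70.app_toUnit b c).symm)

variable (f : X ⟶ Y) [IsOpenImmersion f]

instance preservesColimits_restrictFunctor :
    PreservesColimitsOfSize.{0, 0} (Scheme.Modules.restrictFunctor f) :=
  (Scheme.Modules.restrictAdjunction f).leftAdjoint_preservesColimits

/-- Restriction of a free module is free. -/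
def restrictFree (n : ℕ) :
    (Scheme.Modules.restrictFunctor f).obj (FlatMod.freeMod Y n) ≅ FlatMod.freeMod X n :=
  PreservesCoproduct.iso (Scheme.Modules.restrictFunctor f) (fun _ : Fin n => Coh.structureModule Y) ≪≫
    Sigma.mapIso (fun _ => Scheme.Modules.restrictUnitIso f)

lemma map_ι_restrictFree (n : ℕ) (i : Fin n) :
    (Scheme.Modules.restrictFunctor f).map (Sigma.ι (fun _ : Fin n => Coh.structureModule Y) i) ≫
      (restrictFree f n).hom =
    (Scheme.Modules.restrictUnitIso f).hom ≫
      Sigma.ι (fun _ : Fin n => Coh.structureModule X) i := by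
  rw [restrictFree, Iso.trans_hom, ← IsIso.Iso.inv_inv, ← Category.assoc]
  simp only [PreservesCoproduct.inv_hom]
  rw [map_ι_comp_inv_sigmaComparison]
  simp

/-- Restriction sends the unit section to the unit section. -/
lemma restrictUnitIso_inv_one {M : Y.Modules} (a : Coh.structureModule Y ⟶ M) :
    ((Scheme.Modules.restrictUnitIso f).inv ≫ (Scheme.Modules.restrictFunctor f).map a).app ⊤
      (QC70.toUnit (1 : Γ(X, ⊤))) =
    QC70.res M le_top (a.app ⊤ (QC70.toUnit 1)) := by
  rw [← QC70.app_res]
  change a.app (f ''ᵁ ⊤) ((f.appIso ⊤).inv (1 : Γ(X, ⊤))) = _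
  rw [map_one]
  exact congrArg (a.app (f ''ᵁ ⊤)) (map_one (Y.presheaf.map (homOfLE le_top).op).hom).symm

end Groth.Agent.LF71
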